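import Groth.Agent.Lib.Slice4.Scheme
import Groth.Agent.Lib.FlatDepth.FibreStalk
import Groth.Agent.Lib.Depth.CM
import Mathlib

/-!
# Depth of a stalk along a regular fibre, over an arbitrary base
-/

set_option autoImplicit false
set_option linter.style.haveILetI false
set_option backward.isDefEq.respectTransparency false
universe u

open CategoryTheory AlgebraicGeometry RingTheory.Sequence

namespace Groth.Agent.FibReg13

theorem depth_stalk_ge {X S : Scheme.{u}} (f : X ⟶ S) [LocallyOfFinitePresentation f] [Flat f] (x : X)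
    [IsRegularLocalRing (CInt.fiberStalk f x)] (n : ℕ)
    (hn : (n : WithBot ℕ∞) ≤ ringKrullDim (CInt.fiberStalk f x)) :
    (n : ℕ∞) ≤ LocCoh.depth (X.presheaf.stalk x) (X.presheaf.stalk x) := by
  classical
  obtain ⟨e⟩ := FlatDepth.nonempty_fiberStalkEquiv f x
  let St := X.presheaf.stalk x
  let N₀ : Ideal St := Ideal.map (f.stalkMap x).hom (IsLocalRing.maximalIdeal ↑(S.presheaf.stalk (f x)))
  haveI : Nontrivial (St ⧸ N₀) := e.toEquiv.nontrivial
  haveI : IsLocalRing (St ⧸ N₀) := e.symm.isLocalRing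
  haveI : IsRegularLocalRing (St ⧸ N₀) := IsRegularLocalRing.of_ringEquiv e.symm
  let d := (IsLocalRing.maximalIdeal (St ⧸ N₀)).spanFinrank
  obtain ⟨xs, hxs⟩ := RegLoc.exists_fin_generators (St ⧸ N₀)
  have hd : n ≤ d := by
    have h1 := hn
    rw [← ringKrullDim_eq_of_ringEquiv e, ← IsRegularLocalRing.spanFinrank_maximalIdeal] at h1
    exact_mod_cast h1
  choose ys hys using fun i : Fin d => Ideal.Quotient.mk_surjective (xs i)
  let hs : List St := List.ofFn ys
  have hmap : hs.map (Ideal.Quotient.mk N₀) = List.ofFn xs := by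
    rw [List.map_ofFn]; exact congrArg List.ofFn (funext hys)
  have hreg : IsRegular (St ⧸ N₀) (hs.map (Ideal.Quotient.mk N₀)) := by
    rw [hmap]; exact RegLoc.isRegular_of_span_range _ _ xs hxs rfl
  have hm : ∀ r ∈ hs, r ∈ IsLocalRing.maximalIdeal St := by
    intro r hr
    obtain ⟨i, rfl⟩ := List.mem_ofFn.1 hr
    intro hu
    have : xs i ∈ IsLocalRing.maximalIdeal (St ⧸ N₀) := hxs ▸ Ideal.subset_span ⟨i, rfl⟩
    exact this (hys i ▸ hu.map (Ideal.Quotient.mk N₀))
  obtain ⟨W, hW, hxW, -⟩ := exists_isAffineOpen_mem_and_subset (X := S) (x := f x) (U := ⊤) trivial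
  obtain ⟨U₁, hU₁, h₁W, hx₁, hs₁, hgerm⟩ := Slice4.exists_lift_germs x (f ⁻¹ᵁ W) hxW hs
  let R := Γ(S, W)
  let A := Γ(X, U₁)
  letI : Algebra R A := (f.appLE W U₁ h₁W).hom.toAlgebra
  haveI : Algebra.FinitePresentation R A := f.finitePresentation_appLE hW hU₁ h₁W
  haveI : Module.Flat R A := HasRingHomProperty.appLE (P := @Flat) f inferInstance ⟨W, hW⟩ ⟨U₁, hU₁⟩ h₁W
  let q := (hU₁.primeIdealOf ⟨x, hx₁⟩).asIdeal
  letI := X.presheaf.algebra_section_stalk (U := U₁) ⟨x, hx₁⟩
  haveI : IsLocalization.AtPrime St q := hU₁.isLocalization_stalk ⟨x, hx₁⟩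
  have hN : N₀ = ((q.comap (algebraMap R A)).map (algebraMap R A)).map (algebraMap A St) :=
    CMSlice4.map_maximalIdeal_stalkMap f hW hU₁ h₁W hx₁
  have hfib : KoszulFibre4.FibReg q R hs₁ := by
    refine Slice4.fibReg_of_isWeaklyRegular q St hs₁ ?_
    have h2 := hreg.toIsWeaklyRegular
    rw [← hgerm, List.map_map] at h2
    clear_value N₀
    subst hN
    exact h2
  have hq : Ideal.ofList hs₁ ≤ q := by
    refine Ideal.span_le.2 fun a ha => by_contra fun hna => ?_
    exact hm (algebraMap A St a) (hgerm ▸ List.mem_map.2 ⟨a, ha, rfl⟩)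
      (IsLocalization.map_units St (⟨a, hna⟩ : q.primeCompl))
  obtain ⟨G, hG, hdata⟩ := Slice4.exists_regular_flat_away q hs₁ hq hfib
  let B := Localization.Away G
  obtain ⟨hwr, -⟩ := hdata G dvd_rfl B
  let φ : B →+* St := IsLocalization.Away.lift G (g := algebraMap A St)
    (IsLocalization.map_units St (⟨G, hG⟩ : q.primeCompl))
  letI : Algebra B St := φ.toAlgebra
  haveI : IsScalarTower A B St :=
    IsScalarTower.of_algebraMap_eq fun a => (IsLocalization.Away.lift_eq G _ a).symm
  haveI : IsLocalization (q.primeCompl.map (algebraMap A B)) St :=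
    IsLocalization.isLocalization_of_submonoid_le B St (Submonoid.powers G) q.primeCompl
      (Submonoid.powers_le.2 hG)
  haveI : Module.Flat B St := IsLocalization.flat St (q.primeCompl.map (algebraMap A B))
  have hw : IsWeaklyRegular St hs := by
    have h3 := hwr.of_flat (S := St)
    rw [List.map_map] at h3
    rw [← hgerm]
    convert h3 using 2
    exact funext fun a => IsScalarTower.algebraMap_apply A B St a
  have := DepthLib.length_le_idealDepth hw hm
  rw [List.length_ofFn] at this
  exact le_trans (by exact_mod_cast hd) this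

end Groth.Agent.FibReg13
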